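import Cfsg.Agent.Lib.Biset.Transfer
import Cfsg.Agent.Lib.FusionChain.Alperin
import Cfsg.Agent.Lib.FusionNormal.Generation
import Cfsg.Agent.Lib.FusionChain.Hyperfocal
import Cfsg.Agent.Lib.PGroup.Basic

/-
Tate's theorem for saturated fusion systems through a characteristic model.
Main results (namespace `Cfsg.Agent.FusionTate`):
* `exists_conj_mod_hyperfocal` : every map is a conjugation modulo the hyperfocal subgroup;
* `focal_eq` : `foc = hyp ⊔ [S,S]`;
* `exists_lift` : a homomorphism killing `hyp`, having some lift through a central extension, has a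
  lift killing `hyp`;
* `hyperfocal_eq_of_le_frattini_sup` : a normal `M ≤ hyp ≤ Φ(S) M` of `S` is `hyp`.
-/

set_option autoImplicit false

namespace Cfsg.Agent.FusionTate

open Cfsg Cfsg.FusionSystem Cfsg.Agent.Fusion Cfsg.Agent.FusionChain Cfsg.Agent.Biset
open scoped Classical commutatorElement

variable {Ω : Type*} [Group Ω] {S : Subgroup Ω} {F : FusionSystem S} {p : ℕ}

/-- A homomorphism killing the hyperfocal subgroup sends every map to a conjugation. -/
theorem exists_conj_mod_hyperfocal [Finite S] [Fact p.Prime] (hS : IsPGroup p S) (hF : F.IsSaturated p)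
    {B : Type*} [Group B] (π : S →* B)
    (hπ : ∀ u : S, (u : Ω) ∈ F.hyperfocalSubgroup p → π u = 1)
    {P : Subgroup Ω} {f : Ω → Ω} (hf : IsMap F P f) :
    ∃ γ : S, ∀ u v : S, (u : Ω) ∈ P → (v : Ω) = f u → π v = π (γ * u * γ⁻¹) := by
  refine alperin_induction hS hF
    (fun P f => ∃ γ : S, ∀ u v : S, (u : Ω) ∈ P → (v : Ω) = f u → π v = π (γ * u * γ⁻¹)) ?_ ?_ ?_ ?_ hf
  · rintro P f g - ⟨γ, h⟩ he
    exact ⟨γ, fun u v hu hv => h u v hu (hv.trans (he u hu).symm)⟩
  · rintro P P' f - hle ⟨γ, h⟩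
    exact ⟨γ, fun u v hu hv => h u v (hle hu) hv⟩
  · rintro P P' f g hf' - hfP ⟨γ, h⟩ ⟨δ, h'⟩
    refine ⟨δ * γ, fun u v hu hv => ?_⟩
    rw [h' ⟨f u, hf'.mem hu⟩ v (hfP _ hu) hv, map_mul, map_mul, h u ⟨f u, hf'.mem hu⟩ hu rfl]
    simp [mul_assoc]
  intro R hR _ _ α hα _
  have hRS := hR.1
  have := finite_mulAut (S := S) hRS
  let A : Subgroup (MulAut R) :=
    { carrier := {a | a ∈ F.autGroup R ∧ ∃ γ : S, ∀ u v : S, ∀ hu : (u : Ω) ∈ R,
        (v : Ω) = (a ⟨u, hu⟩ : R) → π v = π (γ * u * γ⁻¹)}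
      one_mem' := ⟨one_mem _, 1, fun u v hu hv => by
        rw [show v = u from Subtype.ext hv]; simp⟩
      mul_mem' := fun {a b} ha hb => by
        obtain ⟨γ, h⟩ := ha.2
        obtain ⟨δ, h'⟩ := hb.2
        refine ⟨mul_mem ha.1 hb.1, γ * δ, fun u v hu hv => ?_⟩
        rw [h ⟨(b ⟨u, hu⟩ : R), hRS (b ⟨u, hu⟩).2⟩ v (b ⟨u, hu⟩).2 hv, map_mul, map_mul,
          h' u ⟨(b ⟨u, hu⟩ : R), hRS (b ⟨u, hu⟩).2⟩ hu rfl]
        simp [mul_assoc]
      inv_mem' := fun {a} ha => by
        obtain ⟨γ, h⟩ := ha.2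
        refine ⟨inv_mem ha.1, γ⁻¹, fun u v hu hv => ?_⟩
        have hv' : (v : Ω) ∈ R := hv ▸ (a⁻¹ ⟨u, hu⟩).2
        have := h v u hv' (by
          rw [show (⟨(v : Ω), hv'⟩ : R) = a⁻¹ ⟨u, hu⟩ from Subtype.ext hv, MulAut.apply_inv_self])
        simp only [map_mul, map_inv] at this ⊢
        rw [this]
        group }
  have hle : F.autGroup R ≤ A := by
    refine FusionNormal.autGroup_le_of_sylow_pResidual
      (isFullyAutomized_iff.1 (fullyAutomized_of_fullyNormalized hS hF hR)).2 ?_ ?_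
    · intro a ha
      obtain ⟨s, hs, hsa⟩ := mem_autInducedBy_iff.1 ha
      refine ⟨autInducedBy_le_autGroup F le_rfl hRS ha, ⟨s, hs⟩, fun u v hu hv => ?_⟩
      refine congrArg π (Subtype.ext ?_)
      rw [hv, hsa]
      rfl
    · intro a ha hco
      refine ⟨ha, 1, fun u v hu hv => ?_⟩
      have h1 : π (u⁻¹ * v) = 1 := hπ _ (by
        have := inv_mul_autFn_mem_hyperfocal hRS ha (mem_pResidual_of_coprime ha hco) hu
        rw [autFn_apply _ hu, ← hv] at this
        exact this)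
      rw [map_mul, map_inv, inv_mul_eq_one] at h1
      simp [h1]
  obtain ⟨-, γ, hγ⟩ := hle hα
  exact ⟨γ, fun u v hu hv => hγ u v hu (hv.trans (autFn_apply α hu))⟩

theorem hyperfocal_normal : ((F.hyperfocalSubgroup p).subgroupOf S).Normal :=
  ⟨fun _ hn g => conj_mem_hyperfocal g.2 hn⟩

theorem commutator_le_focal : (commutator S).map S.subtype ≤ F.focalSubgroup := by
  rw [Subgroup.map_le_iff_le_comap, commutator_eq_closure, Subgroup.closure_le]
  rintro _ ⟨a, b, rfl⟩
  have h := inv_mul_map_mem_focal (IsMap.conj (F := F) (le_refl S) a.2) (S.mul_mem b.2 (S.mul_mem a⁻¹.2 b⁻¹.2))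
  show ((⁅a, b⁆ : S) : Ω) ∈ F.focalSubgroup
  have e : ((⁅a, b⁆ : S) : Ω) =
      (a : Ω) * b * (a : Ω)⁻¹ * (b : Ω)⁻¹ := by simp [commutatorElement_def]
  have h' := inv_mul_map_mem_focal (IsMap.conj (F := F) (le_refl S) a.2) (S.inv_mem b.2)
  have h'' := F.focalSubgroup.inv_mem h'
  rw [e]
  simpa [mul_assoc] using h''

/-- The focal subgroup is the hyperfocal subgroup times the derived subgroup of `S`. -/
theorem focal_eq [Finite S] [Fact p.Prime] (hS : IsPGroup p S) (hF : F.IsSaturated p) :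
    F.focalSubgroup = F.hyperfocalSubgroup p ⊔ (commutator S).map S.subtype := by
  refine le_antisymm ((Subgroup.closure_le _).2 ?_) (sup_le (hyperfocal_le_focal p) commutator_le_focal)
  rintro _ ⟨P, φ, x, hφ, rfl⟩
  haveI := hyperfocal_normal (F := F) (p := p)
  let u : S := ⟨x, (F.le_of_mem hφ).1 x.2⟩
  let v : S := ⟨φ x, (F.le_of_mem hφ).2 x⟩
  obtain ⟨γ, hγ⟩ := exists_conj_mod_hyperfocal hS hF (QuotientGroup.mk' ((F.hyperfocalSubgroup p).subgroupOf S))
    (fun w hw => (QuotientGroup.eq_one_iff w).2 hw) (isMap_toFn hφ)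
  have h := QuotientGroup.eq.1 (hγ u v x.2 (toFn_coe φ x).symm)
  rw [Subgroup.mem_subgroupOf] at h
  have hc : ((⁅γ, u⁻¹⁆ : S) : Ω)⁻¹ ∈ (commutator S).map S.subtype :=
    inv_mem ⟨_, Subgroup.commutator_mem_commutator (Subgroup.mem_top _) (Subgroup.mem_top _), rfl⟩
  have hc' : ((u⁻¹ * (γ * u * γ⁻¹) : S) : Ω) ∈ (commutator S).map S.subtype := by
    refine ⟨⁅u⁻¹, γ⁆, Subgroup.commutator_mem_commutator (Subgroup.mem_top _) (Subgroup.mem_top _), ?_⟩
    show ((⁅u⁻¹, γ⁆ : S) : Ω) = _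
    congr 1
    rw [commutatorElement_def]
    group
  have e : (x : Ω)⁻¹ * φ x = ((u⁻¹ * (γ * u * γ⁻¹) : S) : Ω) * ((v⁻¹ * (γ * u * γ⁻¹) : S) : Ω)⁻¹ := by
    simp [u, v, mul_assoc]
  rw [e]
  exact mul_mem (Subgroup.mem_sup_right hc') (inv_mem (Subgroup.mem_sup_left h))

theorem not_dvd_card_rorb [Finite S] {c : Subgroup (S × S) → ℕ} (hc : Supp F c) [Fintype (ROrb c)]
    (hdeg : ¬ p * Nat.card S ∣ Nat.card (Model c)) : ¬ p ∣ Fintype.card (ROrb c) := by
  intro hdvd
  refine hdeg ?_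
  have hs : IsSection (c := c) Quotient.out := fun q => Quotient.out_eq q
  have e : ROrb c × S ≃ Model c := Equiv.ofBijective
    (fun x => ((1 : S), x.2) • Quotient.out x.1) ⟨?_, ?_⟩
  · rw [← Nat.card_congr e, Nat.card_prod, Nat.card_eq_fintype_card (α := ROrb c)]
    exact Nat.mul_dvd_mul_right hdvd _
  · rintro ⟨q, b⟩ ⟨q', b'⟩ h
    have hq : q = q' := by
      have h' := congrArg (Quotient.mk'' (s₁ := rightRel c)) h
      have hcl : ∀ (b : S) (x : Model c),
          Quotient.mk'' (s₁ := rightRel c) (((1 : S), b) • x) = Quotient.mk'' x :=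
        fun b x => (Quotient.eq'' (s₁ := rightRel c)).2 ((rightRel c).symm' ⟨b, rfl⟩)
      simp only [hcl] at h'
      rwa [hs q, hs q'] at h'
    subst hq
    have h1 : ((1 : S), b'⁻¹ * b) • Quotient.out q = Quotient.out q := by
      calc ((1 : S), b'⁻¹ * b) • Quotient.out q
          = ((1 : S), b'⁻¹) • ((1 : S), b) • Quotient.out q := by
            rw [smul_smul, Prod.mk_mul_mk, one_mul]
        _ = ((1 : S), b'⁻¹) • ((1 : S), b') • Quotient.out q :=
            congrArg (fun y => ((1 : S), b'⁻¹) • y) h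
        _ = Quotient.out q := by
            rw [smul_smul, Prod.mk_mul_mk, one_mul, inv_mul_cancel]
            exact one_smul _ _
    exact Prod.ext rfl (inv_mul_eq_one.1 (right_free hc h1)).symm
  · intro x
    obtain ⟨b, hb⟩ := (Quotient.eq'' (s₁ := rightRel c)).1 (hs (Quotient.mk'' x))
    exact ⟨(Quotient.mk'' x, b), hb⟩

/-- An equivariant labelling of a model by the values of a homomorphism killing `hyp`. -/
theorem exists_label [Finite S] [Fact p.Prime] (hS : IsPGroup p S) (hF : F.IsSaturated p)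
    {c : Subgroup (S × S) → ℕ} (hc : Supp F c) {B : Type*} [Group B] (π : S →* B)
    (hπ : ∀ u : S, (u : Ω) ∈ F.hyperfocalSubgroup p → π u = 1) :
    ∃ Γ : Model c → B, ∀ (a b : S) (x : Model c), Γ ((a, b) • x) = π a * Γ x * (π b)⁻¹ := by
  have hbase : ∀ x : Model c, ∃ γ : B, ∀ h : S × S, h • x = x → π h.1 * γ * (π h.2)⁻¹ = γ := by
    intro x
    obtain ⟨g, hg, he⟩ := hc.good_of_fixed (K := MulAction.stabilizer (S × S) x) fun k hk => hk
    obtain ⟨γ, hγ⟩ := exists_conj_mod_hyperfocal hS hF π hπ hg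
    refine ⟨(π γ)⁻¹, fun h hh => ?_⟩
    rw [hγ h.1 h.2 (fst_mem_src hh) (he h hh).symm, map_mul, map_mul, map_inv]
    group
  choose γ₀ hγ₀ using hbase
  let rep : Model c → Model c := fun x =>
    Quotient.out (Quotient.mk (MulAction.orbitRel (S × S) (Model c)) x)
  have hrep : ∀ x, ∃ h : S × S, h • rep x = x := fun x =>
    MulAction.orbitRel_apply.1 ((MulAction.orbitRel (S × S) (Model c)).symm'
      (Quotient.exact (Quotient.out_eq (Quotient.mk (MulAction.orbitRel (S × S) (Model c)) x))))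
  choose hh hhx using hrep
  refine ⟨fun x => π (hh x).1 * γ₀ (rep x) * (π (hh x).2)⁻¹, fun a b x => ?_⟩
  have hr : rep ((a, b) • x) = rep x := by
    show Quotient.out _ = Quotient.out _
    congr 1
    exact Quotient.sound' (MulAction.orbitRel_apply.2 ⟨(a, b), rfl⟩)
  set g : S × S := (a, b)
  have hst : ((hh (g • x))⁻¹ * g * hh x) • rep x = rep x := by
    rw [mul_smul, mul_smul, hhx, inv_smul_eq_iff]
    have := hhx (g • x)
    rw [hr] at this
    exact this.symm
  have := hγ₀ (rep x) _ hst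
  simp only [Prod.fst_mul, Prod.snd_mul, Prod.fst_inv, Prod.snd_inv, map_mul, map_inv, g] at this
  show π (hh (g • x)).1 * γ₀ (rep (g • x)) * (π (hh (g • x)).2)⁻¹ = _
  rw [hr]
  conv_lhs => rw [← this]
  simp only [g]
  group

theorem exists_lift [Finite S] [Fact p.Prime] (hS : IsPGroup p S) (hF : F.IsSaturated p)
    {E : Type*} [Group E] [Finite E] (hE : IsPGroup p E) (q : S →* E) {B : Type*} [Group B]
    (r : E →* B) (hr : Function.Surjective r) (hcen : r.ker ≤ Subgroup.center E)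
    (hhyp : ∀ u : S, (u : Ω) ∈ F.hyperfocalSubgroup p → r (q u) = 1) :
    ∃ ρ : S →* E, (∀ u, r (ρ u) = r (q u)) ∧
      ∀ u : S, (u : Ω) ∈ F.hyperfocalSubgroup p → ρ u = 1 := by
  obtain ⟨c, hc, hdeg⟩ := exists_characteristic hS hF
  haveI : Finite (ROrb c) := Quotient.finite _
  letI := Fintype.ofFinite (ROrb c)
  obtain ⟨Γ, hΓ⟩ := exists_label hS hF hc.1 (r.comp q) hhyp
  have hs : IsSection (c := c) Quotient.out := fun o => Quotient.out_eq o
  letI : CommGroup r.ker :=
    { (inferInstance : Group r.ker) with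
      mul_comm := fun a b => Subtype.ext (Subgroup.mem_center_iff.1 (hcen a.2) b).symm }
  have hcomm : ∀ z ∈ r.ker, ∀ x : E, z * x = x * z := fun z hz x =>
    (Subgroup.mem_center_iff.1 (hcen hz) x).symm
  let k := Fintype.card (ROrb c)
  have hk : (Nat.card r.ker).Coprime k := by
    obtain ⟨n, hn⟩ := (hE.to_subgroup r.ker).exists_card_eq
    rw [hn]
    exact ((Nat.Prime.coprime_iff_not_dvd (Fact.out : p.Prime)).2
      (not_dvd_card_rorb hc.1 hdeg)).pow_left n
  let κ : E → r.ker := fun x => if h : x ∈ r.ker then ⟨x, h⟩ else 1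
  have hκ : ∀ {x}, x ∈ r.ker → (κ x : E) = x := fun {x} h => congrArg Subtype.val (dif_pos h)
  have hκmul : ∀ {x y}, x ∈ r.ker → y ∈ r.ker → κ (x * y) = κ x * κ y := fun {x y} hx hy =>
    Subtype.ext (by rw [Subgroup.coe_mul, hκ hx, hκ hy, hκ (mul_mem hx hy)])
  -- lifts of the labels and the lifted values at the right orbits
  let l : ROrb c → E := fun o => Function.surjInv hr (Γ (Quotient.out o))
  have hl : ∀ o, r (l o) = Γ (Quotient.out o) := fun o => Function.surjInv_eq hr _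
  let ev : S → ROrb c → E := fun a o => l (orbMap c a o) * (q (coord hs a o))⁻¹ * (l o)⁻¹
  have hev : ∀ a o, r (ev a o) = r (q a) := by
    intro a o
    have h := congrArg Γ (coord_spec hs a o)
    rw [hΓ, hΓ] at h
    simp only [map_one, one_mul, inv_one, mul_one, MonoidHom.comp_apply] at h
    simp only [ev, map_mul, map_inv, hl]
    rw [h]
    group
  have hevmul : ∀ a b o, ev (a * b) o = ev a (orbMap c b o) * ev b o := by
    intro a b o
    have key : coord hs (a * b) o = coord hs b o * coord hs a (orbMap c b o) := by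
      refine coord_unique hc.1 hs ?_
      calc ((1 : S), coord hs b o * coord hs a (orbMap c b o)) • Quotient.out (orbMap c (a * b) o)
          = ((1 : S), coord hs b o) • ((1 : S), coord hs a (orbMap c b o)) •
              Quotient.out (orbMap c a (orbMap c b o)) := by
            rw [orbMap_mul, smul_smul, Prod.mk_mul_mk, one_mul]
        _ = ((1 : S), coord hs b o) • ((a, 1) : S × S) • Quotient.out (orbMap c b o) := by
            rw [coord_spec hs a]
        _ = ((a, 1) : S × S) • ((1 : S), coord hs b o) • Quotient.out (orbMap c b o) :=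
            (comm_left_right _ _ _).symm
        _ = ((a, 1) : S × S) • ((b, 1) : S × S) • Quotient.out o := by rw [coord_spec hs b]
        _ = ((a * b, 1) : S × S) • Quotient.out o := by rw [smul_smul, Prod.mk_mul_mk, mul_one]
    simp only [ev, key, orbMap_mul, map_mul]
    group
  have hev_def : ∀ a o, ev a o = l (orbMap c a o) * (q (coord hs a o))⁻¹ * (l o)⁻¹ := fun _ _ => rfl
  clear_value ev
  let Φ : S → E → r.ker := fun a y => ∏ o, κ (y⁻¹ * ev a o)
  have hmemΦ : ∀ {a y}, r y = r (q a) → ∀ o, y⁻¹ * ev a o ∈ r.ker := fun {a y} hy o => by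
    rw [MonoidHom.mem_ker, map_mul, map_inv, hev, hy, inv_mul_cancel]
  have hΦz : ∀ {a y z}, r y = r (q a) → z ∈ r.ker → Φ a (y * z) = (κ z⁻¹) ^ k * Φ a y := by
    intro a y z hy hz
    show (∏ o, κ ((y * z)⁻¹ * ev a o)) = _
    have e : ∀ o, κ ((y * z)⁻¹ * ev a o) = κ z⁻¹ * κ (y⁻¹ * ev a o) := fun o => by
      rw [← hκmul (inv_mem hz) (hmemΦ hy o), mul_inv_rev, mul_assoc]
    simp only [e, Finset.prod_mul_distrib, Finset.prod_const, Finset.card_univ]
    rfl
  let ρ : S → E := fun a => q a * ((powCoprime hk).symm (Φ a (q a)) : E)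
  have hρr : ∀ a, r (ρ a) = r (q a) := fun a => by
    simp only [ρ, map_mul, MonoidHom.mem_ker.1 ((powCoprime hk).symm (Φ a (q a))).2, mul_one]
  have hρΦ : ∀ a, Φ a (ρ a) = 1 := by
    intro a
    rw [hΦz rfl ((powCoprime hk).symm (Φ a (q a))).2]
    have e : κ ((((powCoprime hk).symm (Φ a (q a))) : r.ker) : E)⁻¹ = ((powCoprime hk).symm (Φ a (q a)))⁻¹ :=
      Subtype.ext (hκ (inv_mem (Subtype.prop _)))
    rw [e, inv_pow, inv_mul_eq_one]
    exact (powCoprime hk).apply_symm_apply (Φ a (q a))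
  have huniq : ∀ {a y}, r y = r (q a) → Φ a y = 1 → y = ρ a := by
    intro a y hy h1
    have hz : (ρ a)⁻¹ * y ∈ r.ker := by
      rw [MonoidHom.mem_ker, map_mul, map_inv, hρr, hy, inv_mul_cancel]
    have h2 := hΦz (hρr a) hz
    rw [mul_inv_cancel_left, h1, hρΦ, mul_one] at h2
    have h3 : (powCoprime hk) (κ ((ρ a)⁻¹ * y)⁻¹) = powCoprime hk 1 := by
      rw [powCoprime_apply, powCoprime_apply, one_pow]; exact h2.symm
    have h4 := congrArg Subtype.val ((powCoprime hk).injective h3)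
    rw [hκ (inv_mem hz), OneMemClass.coe_one, inv_eq_one, inv_mul_eq_one] at h4
    exact h4.symm
  have hρmul : ∀ a b, ρ (a * b) = ρ a * ρ b := by
    intro a b
    refine (huniq (by simp [map_mul, hρr]) ?_).symm
    show (∏ o, κ ((ρ a * ρ b)⁻¹ * ev (a * b) o)) = 1
    have e : ∀ o, κ ((ρ a * ρ b)⁻¹ * ev (a * b) o) =
        κ ((ρ a)⁻¹ * ev a (orbMap c b o)) * κ ((ρ b)⁻¹ * ev b o) := fun o => by
      have h1 := hmemΦ (hρr a) (orbMap c b o)
      rw [← hκmul h1 (hmemΦ (hρr b) o), hevmul]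
      congr 1
      rw [← mul_assoc ((ρ a)⁻¹ * ev a (orbMap c b o)), hcomm _ h1]
      group
    simp only [e, Finset.prod_mul_distrib]
    rw [Fintype.prod_equiv (Equiv.ofBijective _ (orbMap_bijective c b))
      (fun o => κ ((ρ a)⁻¹ * ev a (orbMap c b o))) (fun o => κ ((ρ a)⁻¹ * ev a o)) fun o => rfl]
    exact (congrArg₂ (· * ·) (hρΦ a) (hρΦ b)).trans (mul_one 1)
  clear_value ρ
  let ρh : S →* E := MonoidHom.mk' ρ hρmul
  -- invariance on the hyperfocal part
  have hinv : ∀ {P : Subgroup Ω} {f : Ω → Ω}, IsMap F P f → ∀ u v : S, (u : Ω) ∈ P →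
      (v : Ω) = f u → r (q u) = 1 → r (q v) = 1 → ρ v = ρ u := by
    intro P f hf u v hu hv hu1 hv1
    obtain ⟨e, he⟩ := hc.exists_equiv_of_isMap hf
    have hright : ∀ (b : S) (x : Model c), e (((1 : S), b) • x) = ((1 : S), b) • e x :=
      fun b => he 1 1 b P.one_mem (by rw [OneMemClass.coe_one, hf.map_one])
    have hright' : ∀ (b : S) (x : Model c), e.symm (((1 : S), b) • x) = ((1 : S), b) • e.symm x := by
      intro b x
      apply e.injective
      rw [hright, e.apply_symm_apply, e.apply_symm_apply]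
    let σ : ROrb c ≃ ROrb c :=
      { toFun := Quotient.map' e fun x y ⟨b, hb⟩ => ⟨b, by rw [← hright, hb]⟩
        invFun := Quotient.map' e.symm fun x y ⟨b, hb⟩ => ⟨b, by rw [← hright', hb]⟩
        left_inv := fun o => by
          induction o using Quotient.inductionOn' with
          | h x => exact congrArg Quotient.mk'' (e.symm_apply_apply x)
        right_inv := fun o => by
          induction o using Quotient.inductionOn' with
          | h x => exact congrArg Quotient.mk'' (e.apply_symm_apply x) }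
    have hσ : ∀ o, orbMap c v (σ o) = σ (orbMap c u o) := by
      intro o
      induction o using Quotient.inductionOn' with
      | h x => exact congrArg Quotient.mk'' (he u v 1 hu hv x).symm
    have hd : ∀ o, ∃ d : S, ((1 : S), d) • Quotient.out (σ o) = e (Quotient.out o) := fun o =>
      (Quotient.eq'' (s₁ := rightRel c)).1 ((hs (σ o)).trans (congrArg σ (hs o).symm))
    choose d hd using hd
    let D : ROrb c → E := fun o => l (σ o) * (q (d o))⁻¹ * (l o)⁻¹
    have hco : ∀ o, coord hs v (σ o) = (d o)⁻¹ * coord hs u o * d (orbMap c u o) := by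
      intro o
      refine coord_unique hc.1 hs ?_
      rw [hσ]
      calc ((1 : S), (d o)⁻¹ * coord hs u o * d (orbMap c u o)) • Quotient.out (σ (orbMap c u o))
          = ((1 : S), (d o)⁻¹) • e (((1 : S), coord hs u o) • Quotient.out (orbMap c u o)) := by
            rw [hright, ← hd, smul_smul, smul_smul, Prod.mk_mul_mk, Prod.mk_mul_mk, one_mul, one_mul,
              mul_assoc]
        _ = ((1 : S), (d o)⁻¹) • ((v, 1) : S × S) • e (Quotient.out o) := by
            rw [coord_spec hs u o, he u v 1 hu hv]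
        _ = ((v, 1) : S × S) • Quotient.out (σ o) := by
            rw [← comm_left_right, ← hd, smul_smul ((1 : S), (d o)⁻¹), Prod.mk_mul_mk, one_mul,
              inv_mul_cancel]
            exact congrArg _ (one_smul (S × S) _)
    have hevv : ∀ o, ev v (σ o) = D (orbMap c u o) * ev u o * (D o)⁻¹ := by
      intro o
      simp only [hev_def, D, hco, hσ, map_mul, map_inv]
      group
    clear_value D
    let t : ROrb c → E := fun o => (Function.surjInv hr (r (D o)))⁻¹ * D o
    have ht : ∀ o, t o ∈ r.ker := fun o => by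
      rw [MonoidHom.mem_ker, map_mul, map_inv, Function.surjInv_eq hr, inv_mul_cancel]
    have hrD : ∀ o, r (D (orbMap c u o)) = r (D o) := by
      intro o
      have := congrArg r (hevv o)
      rw [map_mul, map_mul, map_inv, hev, hev, hu1, hv1, mul_one] at this
      exact mul_inv_eq_one.1 this.symm
    refine (huniq (by rw [hρr, hu1, hv1]) ?_).symm
    show (∏ o, κ ((ρ u)⁻¹ * ev v o)) = 1
    rw [← Fintype.prod_equiv σ (fun o => κ ((ρ u)⁻¹ * ev v (σ o))) (fun o => κ ((ρ u)⁻¹ * ev v o))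
      fun o => rfl]
    have e' : ∀ o, κ ((ρ u)⁻¹ * ev v (σ o)) =
        κ ((ρ u)⁻¹ * ev u o) * (κ (t (orbMap c u o)) * (κ (t o))⁻¹) := by
      intro o
      have hu' : ev u o ∈ r.ker := by rw [MonoidHom.mem_ker, hev, hu1]
      have e1 : D (orbMap c u o) * (D o)⁻¹ = t (orbMap c u o) * (t o)⁻¹ := by
        obtain ⟨s, h0, h0'⟩ : ∃ s, D o = s * t o ∧ D (orbMap c u o) = s * t (orbMap c u o) :=
          ⟨Function.surjInv hr (r (D o)), (mul_inv_cancel_left _ _).symm, by
            simp only [t, hrD, mul_inv_cancel_left]⟩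
        calc D (orbMap c u o) * (D o)⁻¹ = s * (t (orbMap c u o) * (t o)⁻¹) * s⁻¹ := by
              rw [h0, h0']; group
          _ = _ := by rw [← hcomm _ (mul_mem (ht _) (inv_mem (ht o))) s, mul_inv_cancel_right]
      have e2 : (ρ u)⁻¹ * ev v (σ o) = ((ρ u)⁻¹ * ev u o) * (t (orbMap c u o) * (t o)⁻¹) := by
        rw [hevv, ← e1, ← hcomm _ hu' (D (orbMap c u o))]
        group
      rw [e2, hκmul (hmemΦ (hρr u) o) (mul_mem (ht _) (inv_mem (ht o))), hκmul (ht _) (inv_mem (ht o))]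
      congr 2
      exact Subtype.ext (by rw [hκ (inv_mem (ht o)), InvMemClass.coe_inv, hκ (ht o)])
    simp only [e', Finset.prod_mul_distrib, Finset.prod_inv_distrib]
    rw [Fintype.prod_equiv (Equiv.ofBijective _ (orbMap_bijective c u))
      (fun o => κ (t (orbMap c u o))) (fun o => κ (t o)) fun o => rfl, mul_inv_cancel, mul_one]
    exact hρΦ u
  have hpow : ∀ {P : Subgroup Ω}, P ≤ S → ∀ a ∈ F.autGroup P, (orderOf a).Coprime p →
      ∀ u v : S, ∀ hu : (u : Ω) ∈ P, (v : Ω) = (a ⟨u, hu⟩ : P) → ρ v = ρ u := by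
    intro P hP a ha hco u v hu hv
    have hπ : ∀ (b : MulAut P), b ∈ Subgroup.zpowers a → ∀ w : P,
        r (q (⟨w, hP w.2⟩ : S)⁻¹) * r (q ⟨(b w : P), hP (b w).2⟩) = 1 := by
      intro b hb w
      rw [← map_mul, ← map_mul]
      have hb' : b ∈ F.autGroup P := Subgroup.zpowers_le.2 ha hb
      refine hhyp _ ?_
      have hcb : (orderOf b).Coprime p :=
        Nat.Coprime.coprime_dvd_left (orderOf_dvd_of_mem_zpowers hb) hco
      have := inv_mul_autFn_mem_hyperfocal hP hb' (mem_pResidual_of_coprime hb' hcb) w.2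
      rw [autFn_apply _ w.2] at this
      exact this
    let el : P → S := fun w => ⟨w, hP w.2⟩
    have hφ : ρ u = ρ (el ⟨u, hu⟩) := rfl
    have key : ∀ n : ℕ, ρ (el ((a ^ n) ⟨u, hu⟩)) = ρ u * ((ρ u)⁻¹ * ρ v) ^ n := by
      intro n
      induction n with
      | zero => rw [pow_zero, pow_zero, mul_one, MulAut.one_apply]
      | succ n ih =>
        let w : P := (⟨u, hu⟩ : P)⁻¹ * (a ^ n) ⟨u, hu⟩
        have hw1 : r (q (el w)) = 1 := by
          have := hπ (a ^ n) (Subgroup.npow_mem_zpowers a n) ⟨u, hu⟩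
          rw [← map_mul, ← map_mul] at this
          exact this
        have hw2 : r (q (el (a w))) = 1 := by
          have := hπ a (Subgroup.mem_zpowers a) w
          rw [map_inv, map_inv, show (⟨(w : Ω), hP w.2⟩ : S) = el w from rfl, hw1, inv_one, one_mul] at this
          exact this
        have hρw : ρ (el (a w)) = ρ (el w) :=
          hinv ((mem_autGroup_iff hP).1 ha) (el w) (el (a w)) w.2
            (autFn_apply a w.2).symm hw1 hw2
        have hn : (a ^ n) ⟨u, hu⟩ = ⟨u, hu⟩ * w := (mul_inv_cancel_left _ _).symm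
        have hn' : (a ^ (n + 1)) ⟨u, hu⟩ = a ⟨u, hu⟩ * a w := by
          rw [pow_succ', MulAut.mul_apply, hn, map_mul]
        have h1 : ρ (el ((a ^ (n + 1)) ⟨u, hu⟩)) = ρ v * ρ (el w) := by
          rw [hn', show el (a ⟨u, hu⟩ * a w) = el (a ⟨u, hu⟩) * el (a w) from rfl, hρmul, hρw,
            show el (a ⟨u, hu⟩) = v from Subtype.ext hv.symm]
        have hwC : ρ (el w) ∈ r.ker := by rw [MonoidHom.mem_ker, hρr, hw1]
        rw [hn, show el ((⟨u, hu⟩ : P) * w) = u * el w from rfl, hρmul] at ih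
        rw [h1, pow_succ, ← mul_assoc (ρ u), ← ih, mul_assoc (ρ u), hcomm _ hwC ((ρ u)⁻¹ * ρ v),
          ← mul_assoc (ρ u), mul_inv_cancel_left]
    have h1 := key (orderOf a)
    rw [pow_orderOf_eq_one, MulAut.one_apply, show el ⟨u, hu⟩ = u from rfl] at h1
    have h2 : ((ρ u)⁻¹ * ρ v) ^ orderOf a = 1 := mul_eq_left.1 h1.symm
    obtain ⟨j, hj⟩ := hE ((ρ u)⁻¹ * ρ v)
    have h3 : ((ρ u)⁻¹ * ρ v) ^ Nat.gcd (orderOf a) (p ^ j) ∈ (⊥ : Subgroup E) :=
      FusionNormal.pow_gcd_mem (Subgroup.mem_bot.2 h2) hj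
    rw [(hco.pow_right j).gcd_eq_one, pow_one, Subgroup.mem_bot, inv_mul_eq_one] at h3
    exact h3.symm
  refine ⟨ρh, hρr, ?_⟩
  have hle : F.hyperfocalSubgroup p ≤ ρh.ker.map S.subtype := by
    refine (Subgroup.closure_le _).2 ?_
    rintro _ ⟨P, α, x, hP, hα, rfl⟩
    have hres : ∀ g : F.autGroup P, g ∈ Cfsg.pResidual p (F.autGroup P) → ∀ u v : S,
        ∀ hu : (u : Ω) ∈ P, (v : Ω) = ((g : MulAut P) ⟨u, hu⟩ : P) → ρ v = ρ u := by
      intro g hg
      induction hg using Subgroup.closure_induction with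
      | one => intro u v hu hv; rw [show v = u from Subtype.ext hv]
      | mul a b _ _ ha hb =>
        intro u v hu hv
        rw [ha ⟨_, hP ((b : MulAut P) ⟨u, hu⟩).2⟩ v ((b : MulAut P) ⟨u, hu⟩).2 hv]
        exact hb u _ hu rfl
      | inv a _ ha =>
        intro u v hu hv
        have hv' : (v : Ω) ∈ P := hv ▸ (((a⁻¹ : F.autGroup P) : MulAut P) ⟨u, hu⟩).2
        refine (ha v u hv' ?_).symm
        rw [show (⟨(v : Ω), hv'⟩ : P) = ((a⁻¹ : F.autGroup P) : MulAut P) ⟨u, hu⟩ from Subtype.ext hv,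
          InvMemClass.coe_inv, MulAut.apply_inv_self]
      | mem a ha =>
        intro u v hu hv
        have ha' : (orderOf (a : MulAut P)).Coprime p := by rw [Subgroup.orderOf_coe]; exact ha
        exact hpow hP _ a.2 ha' u v hu hv
    refine ⟨(⟨x, hP x.2⟩ : S)⁻¹ * ⟨((α : MulAut P) x : P), hP ((α : MulAut P) x).2⟩, ?_, rfl⟩
    show ρh _ = 1
    rw [map_mul, map_inv, inv_mul_eq_one]
    exact (hres α hα ⟨x, hP x.2⟩ ⟨_, hP ((α : MulAut P) x).2⟩ x.2 rfl).symm
  intro u hu
  obtain ⟨w, hw, hwu⟩ := hle hu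
  rw [← show w = u from Subtype.ext hwu]
  exact hw

/-- Tate: a normal subgroup of `S` inside `hyp` covering it modulo `Φ(S)` is equal to it. -/
theorem hyperfocal_eq_of_le_frattini_sup [Finite S] [Fact p.Prime] (hS : IsPGroup p S)
    (hF : F.IsSaturated p) {M : Subgroup S} [hMn : M.Normal]
    (hM : M ≤ (F.hyperfocalSubgroup p).subgroupOf S)
    (hH : (F.hyperfocalSubgroup p).subgroupOf S ≤ frattini S ⊔ M) :
    M = (F.hyperfocalSubgroup p).subgroupOf S := by
  set N := (F.hyperfocalSubgroup p).subgroupOf S with hN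
  haveI : N.Normal := hyperfocal_normal
  by_contra hne
  have hlt : M < N := lt_of_le_of_ne hM hne
  obtain ⟨L, ⟨hLn, hML, hLN⟩, hLmax⟩ := Set.exists_max_image
    {L : Subgroup S | L.Normal ∧ M ≤ L ∧ L < N} (fun L => Nat.card L) (Set.toFinite _) ⟨M, hMn, le_rfl, hlt⟩
  let q : S →* S ⧸ L := QuotientGroup.mk' L
  let r : S ⧸ L →* S ⧸ N := QuotientGroup.map L N (MonoidHom.id S) (fun x hx => hLN.le hx)
  have hr : Function.Surjective r := fun b => by
    obtain ⟨x, rfl⟩ := QuotientGroup.mk_surjective b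
    exact ⟨x, rfl⟩
  have hrker : ∀ x : S, r x = 1 ↔ x ∈ N := fun x => by
    show (QuotientGroup.mk x : S ⧸ N) = 1 ↔ _
    exact QuotientGroup.eq_one_iff x
  have hEp : IsPGroup p (S ⧸ L) := hS.to_quotient L
  haveI : Finite (S ⧸ L) := Quotient.finite _
  -- the kernel is central
  have hcen : r.ker ≤ Subgroup.center (S ⧸ L) := by
    let Z := Subgroup.center (S ⧸ L) ⊓ r.ker
    have hne' : r.ker ≠ ⊥ := by
      obtain ⟨x, hxN, hxL⟩ := SetLike.exists_of_lt hLN
      intro h
      have : (q x) ∈ r.ker := (hrker x).2 hxN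
      rw [h, Subgroup.mem_bot] at this
      exact hxL ((QuotientGroup.eq_one_iff x).1 this)
    have hZ : Z ≠ ⊥ := by
      intro hZ
      exact PGroup.inf_center_ne_bot hEp hne' (Eq.trans (inf_comm ..) hZ)
    let K : Subgroup S := Z.comap q
    haveI : Z.Normal := inferInstance
    have hKn : K.Normal := inferInstance
    have hLK : L < K := by
      refine lt_of_le_of_ne (fun x hx => ?_) fun h => hZ ?_
      · show q x ∈ Z
        rw [show q x = 1 from (QuotientGroup.eq_one_iff x).2 hx]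
        exact one_mem _
      · refine (Subgroup.eq_bot_iff_forall _).2 fun z hz => ?_
        obtain ⟨x, rfl⟩ := QuotientGroup.mk_surjective z
        exact (QuotientGroup.eq_one_iff x).2 (h.symm ▸ hz : x ∈ L)
    have hKN : K ≤ N := fun x hx => (hrker x).1 hx.2
    have hKe : K = N := by
      by_contra hKne
      have := hLmax K ⟨hKn, hML.trans hLK.le, lt_of_le_of_ne hKN hKne⟩
      have h2 := Set.ncard_lt_ncard (s := (L : Set S)) (t := (K : Set S)) hLK (Set.toFinite _)
      simp only [← Nat.card_coe_set_eq] at h2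
      exact absurd this (not_le.2 h2)
    intro z hz
    obtain ⟨x, rfl⟩ := QuotientGroup.mk_surjective z
    exact ((hKe.symm ▸ (hrker x).1 hz : x ∈ K)).1
  obtain ⟨ρ, hρ, hρ0⟩ := exists_lift hS hF hEp q r hr hcen fun u hu => (hrker u).2 hu
  have hsurj : ρ.range = ⊤ := by
    refine frattini_nongenerating (eq_top_iff.2 fun z _ => ?_)
    obtain ⟨x, rfl⟩ := QuotientGroup.mk_surjective z
    have h1 : (ρ x)⁻¹ * q x ∈ r.ker := by
      rw [MonoidHom.mem_ker, map_mul, map_inv, hρ, inv_mul_cancel]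
    have h2 : r.ker ≤ frattini (S ⧸ L) := by
      intro y hy
      obtain ⟨w, rfl⟩ := QuotientGroup.mk_surjective y
      have hw : w ∈ frattini S ⊔ L := (hH.trans (sup_le_sup_left hML _)) ((hrker w).1 hy)
      have : (frattini S ⊔ L).map q ≤ frattini (S ⧸ L) := by
        rw [Subgroup.map_sup, show L.map q = ⊥ by rw [Subgroup.map_eq_bot_iff, QuotientGroup.ker_mk'], sup_bot_eq]
        exact Subgroup.map_le_iff_le_comap.2 (frattini_le_comap_frattini_of_surjective (QuotientGroup.mk'_surjective L))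
      exact this ⟨w, hw, rfl⟩
    have : q x = ρ x * ((ρ x)⁻¹ * q x) := (mul_inv_cancel_left _ _).symm
    show q x ∈ _
    rw [this]
    exact Subgroup.mul_mem_sup ⟨x, rfl⟩ (h2 h1)
  have hle : N ≤ ρ.ker := fun u hu => hρ0 u hu
  have h1 : ρ.ker.index = Nat.card (S ⧸ L) := by
    rw [Subgroup.index_ker, hsurj, Subgroup.card_top]
  have h2 : ρ.ker.index ≤ N.index :=
    Nat.le_of_dvd (Nat.pos_of_ne_zero N.index_ne_zero_of_finite) (Subgroup.index_dvd_of_le hle)
  have h3 : N.index < L.index := Subgroup.index_strictAnti hLN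
  rw [h1, ← Subgroup.index_eq_card] at h2
  omega

end Cfsg.Agent.FusionTate
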