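import Cfsg.Agent.Lib.Fusion.SylowIn
import Cfsg.Agent.Lib.Fusion.Saturation
import Cfsg.Agent.EqLemmas

/-
Group-theoretic part of Glauberman's argument for `℧ⁿ(Z(S))`.
Main results (namespace `Cfsg.Agent.FusionTate`):
* `le_of_local` : a subgroup containing the normalizer of a Sylow `T` and, for `D ≤ T`, every element
  normalizing `D` with `p`-th power in `D`, is everything;
* `smul_pow_fixed` : `(τ-1)^k = 0`, `k ≤ n(p-1)+1`, `τ^p w = w` ⇒ `τ` fixes `p^n w`.
-/

set_option autoImplicit false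

namespace Cfsg.Agent.FusionTate

open Cfsg.Agent.Fusion Cfsg.FusionSystem

theorem exists_pow_step {G : Type*} [Group G] [Finite G] {p : ℕ} {T D : Subgroup G}
    (hT : IsPGroup p T) {x : G} (hx : x ∈ T) (hxD : x ∉ D) :
    ∃ i : ℕ, x ^ p ^ i ∉ D ∧ (x ^ p ^ i) ^ p ∈ D := by
  by_contra h
  push Not at h
  have hall : ∀ i : ℕ, x ^ p ^ i ∉ D := by
    intro i
    induction i with
    | zero => simpa using hxD
    | succ i ih => rw [pow_succ, pow_mul]; exact h i ih
  obtain ⟨k, hk⟩ := hT ⟨x, hx⟩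
  refine hall k ?_
  have := congrArg Subtype.val hk
  simp only [SubmonoidClass.coe_pow, OneMemClass.coe_one] at this
  rw [this]
  exact one_mem _

theorem le_of_local {G : Type*} [Group G] [Finite G] {p : ℕ} [Fact p.Prime] {A T : Subgroup G}
    (hT : IsSylowIn p T A) (M : Subgroup G)
    (hN : ∀ g ∈ A, (∀ x ∈ T, g * x * g⁻¹ ∈ T) → g ∈ M)
    (hloc : ∀ D, D ≤ T → ∀ t ∈ A, (∀ x ∈ D, t * x * t⁻¹ ∈ D) → t ^ p ∈ D → t ∈ M) : A ≤ M := by
  suffices key : ∀ d, ∀ D, D ≤ T → Nat.card T ≤ Nat.card D + d →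
      ∀ g ∈ A, (∀ x ∈ D, g * x * g⁻¹ ∈ T) → g ∈ M from
    fun g hg => key (Nat.card T) ⊥ bot_le (Nat.le_add_left _ _) g hg fun x hx => by
      rw [Subgroup.mem_bot.1 hx]; simp
  intro d
  induction d using Nat.strong_induction_on with
  | _ d IH =>
  intro D hD hd g hg hgD
  by_cases hDT : D = T
  · subst hDT
    exact hN g hg hgD
  -- the induction hypothesis in usable form
  have IH' : ∀ E : Subgroup G, E ≤ T → Nat.card D < Nat.card E →
      ∀ a ∈ A, (∀ x ∈ E, a * x * a⁻¹ ∈ T) → a ∈ M := fun E hE hlt a ha h => by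
    have := Subgroup.card_le_of_le hE
    exact IH (Nat.card T - Nat.card E) (by omega) E hE (by omega) a ha h
  set Γ : Subgroup G := A ⊓ Subgroup.normalizer (D : Set G) with hΓ
  have hDA : D ≤ A := hD.trans hT.le
  have hDΓ : D ≤ Γ := le_inf hDA Subgroup.le_normalizer
  -- the normalizer in `T`
  have hD1 : D < normalizerIn T D :=
    lt_normalizerIn hT.isPGroup le_rfl (lt_of_le_of_ne hD hDT)
  have hD1Γ : normalizerIn T D ≤ Γ := inf_le_inf_right _ hT.le
  have hD1T : normalizerIn T D ≤ T := inf_le_left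
  obtain ⟨U, hD1U, hU⟩ := exists_isSylowIn_ge (hT.isPGroup.to_le hD1T) hD1Γ
  obtain ⟨h, hhA, hh⟩ := hT.exists_conj_le hU.isPGroup (hU.le.trans inf_le_left)
  have hhM : h ∈ M := IH' _ hD1T
    (lt_of_le_of_ne (Subgroup.card_le_of_le hD1.le) fun e => hD1.ne (Subgroup.eq_of_le_of_card_ge hD1.le e.ge))
    h hhA fun x hx => hh x (hD1U hx)
  -- the subgroup generated by the elements of order `p` modulo `D`
  let K : Subgroup G := Subgroup.closure {t | t ∈ Γ ∧ t ^ p ∈ D}
  have hKM : K ≤ M := (Subgroup.closure_le _).2 fun t ht => hloc D hD t ht.1.1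
    (fun x hx => (Subgroup.mem_normalizer_iff.1 ht.1.2 x).1 hx) ht.2
  have hKΓ : K ≤ Γ := (Subgroup.closure_le _).2 fun t ht => ht.1
  have hKn : ∀ a ∈ Γ, ∀ k ∈ K, a * k * a⁻¹ ∈ K := by
    intro a ha
    have hle : K ≤ K.comap (MulAut.conj a).toMonoidHom := by
      refine (Subgroup.closure_le _).2 fun t ht => Subgroup.subset_closure ⟨?_, ?_⟩
      · exact Γ.mul_mem (Γ.mul_mem ha ht.1) (Γ.inv_mem ha)
      · show (a * t * a⁻¹) ^ p ∈ D
        rw [conj_pow]
        exact (Subgroup.mem_normalizer_iff.1 ha.2 _).1 ht.2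
    exact fun k hk => hle hk
  have hP0 : IsSylowIn p (U ⊓ K) K := hU.inf_normal hKΓ hKn
  have hDP0 : D < U ⊓ K := by
    obtain ⟨x, hx, hxD⟩ := SetLike.exists_of_lt hD1
    obtain ⟨i, hi, hi'⟩ := exists_pow_step hT.isPGroup (hD1T hx) hxD
    refine lt_of_le_of_ne (le_inf (hD1.le.trans hD1U) fun y hy =>
      Subgroup.subset_closure ⟨hDΓ hy, pow_mem hy p⟩) fun e => hi ?_
    rw [e]
    exact ⟨hD1U (pow_mem hx _), Subgroup.subset_closure ⟨hD1Γ (pow_mem hx _), hi'⟩⟩
  -- `Γ` lies in `M`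
  have hΓM : ∀ k ∈ Γ, k ∈ M := by
    intro k hk
    obtain ⟨a, ha, hconj⟩ := hP0.exists_conj_le (H := (U ⊓ K).map (MulAut.conj k).toMonoidHom)
      (hP0.isPGroup.map _) (by rintro _ ⟨y, hy, rfl⟩; exact hKn k hk y hy.2)
    have hm : h * (a * k) * h⁻¹ ∈ M := by
      refine IH' ((U ⊓ K).map (MulAut.conj h).toMonoidHom) ?_ ?_ _
        (A.mul_mem (A.mul_mem hhA (A.mul_mem (hKΓ ha).1 hk.1)) (A.inv_mem hhA)) ?_
      · rintro _ ⟨y, hy, rfl⟩
        exact hh y hy.1
      · rw [Nat.card_congr ((U ⊓ K).equivMapOfInjective _ (MulAut.conj h).injective).toEquiv.symm]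
        exact lt_of_le_of_ne (Subgroup.card_le_of_le hDP0.le)
          fun e => hDP0.ne (Subgroup.eq_of_le_of_card_ge hDP0.le e.ge)
      · rintro _ ⟨y, hy, rfl⟩
        show h * (a * k) * h⁻¹ * (h * y * h⁻¹) * (h * (a * k) * h⁻¹)⁻¹ ∈ T
        have hy' : a * (k * y * k⁻¹) * a⁻¹ ∈ U ⊓ K := hconj _ ⟨y, hy, rfl⟩
        convert hh _ hy'.1 using 1
        group
    have : k = a⁻¹ * (h⁻¹ * (h * (a * k) * h⁻¹) * h) := by group
    rw [this]
    exact M.mul_mem (M.inv_mem (hKM ha)) (M.mul_mem (M.mul_mem (M.inv_mem hhM) hm) hhM)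
  -- the normalizer of the image
  let D' : Subgroup G := D.map (MulAut.conj g).toMonoidHom
  have hcard : Nat.card D' = Nat.card D :=
    (Nat.card_congr (D.equivMapOfInjective _ (MulAut.conj g).injective).toEquiv).symm
  have hD'T : D' ≤ T := by rintro _ ⟨y, hy, rfl⟩; exact hgD y hy
  have hD'1 : D' < normalizerIn T D' := by
    refine lt_normalizerIn hT.isPGroup le_rfl (lt_of_le_of_ne hD'T fun e => hDT ?_)
    refine Subgroup.eq_of_le_of_card_ge hD ?_
    rw [← hcard, e]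
  have hE : (normalizerIn T D').map (MulAut.conj g⁻¹).toMonoidHom ≤ Γ := by
    rintro _ ⟨y, hy, rfl⟩
    refine ⟨A.mul_mem (A.mul_mem (A.inv_mem hg) (hT.le hy.1)) (by simpa using hg), ?_⟩
    refine Subgroup.mem_normalizer_iff.2 fun x => ?_
    have h1 : ∀ z, z ∈ D ↔ g * z * g⁻¹ ∈ D' := fun z =>
      (Subgroup.mem_map_iff_mem (MulAut.conj g).injective).symm
    show x ∈ D ↔ g⁻¹ * y * g⁻¹⁻¹ * x * (g⁻¹ * y * g⁻¹⁻¹)⁻¹ ∈ D
    rw [h1 x, h1 (_ * x * _), (Subgroup.mem_normalizer_iff.1 hy.2) (g * x * g⁻¹)]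
    group
  obtain ⟨k, hk, hkU⟩ := hU.exists_conj_le ((hT.isPGroup.to_le inf_le_left).map _) hE
  have hlast : h * k * g⁻¹ ∈ M := by
    refine IH' (normalizerIn T D') inf_le_left (hcard ▸ lt_of_le_of_ne (Subgroup.card_le_of_le hD'1.le)
      fun e => hD'1.ne (Subgroup.eq_of_le_of_card_ge hD'1.le e.ge)) _
      (A.mul_mem (A.mul_mem hhA hk.1) (A.inv_mem hg)) fun x hx => ?_
    convert hh _ (hkU _ ⟨x, hx, rfl⟩) using 1
    show _ = h * (k * (g⁻¹ * x * g⁻¹⁻¹) * k⁻¹) * h⁻¹
    group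
  have : g = (h * k * g⁻¹)⁻¹ * (h * k) := by group
  rw [this]
  exact M.mul_mem (M.inv_mem hlast) (M.mul_mem hhM (hΓM k hk))

/-- Glauberman's power lemma. -/
theorem smul_pow_fixed {W : Type*} [AddCommGroup W] {p : ℕ} [hp : Fact p.Prime] (n k : ℕ)
    (δ : AddMonoid.End W) (hδ : δ ^ k = 0) (hk : k ≤ n * (p - 1) + 1) {w : W}
    (hw : ((δ + 1) ^ p) w = w) : δ ((p ^ n) • w) = 0 := by
  have hp2 := hp.out.two_le
  suffices key : ∀ j i, n * (p - 1) ≤ i + j * (p - 1) → p ^ j • (δ ^ (i + 1)) w = 0 by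
    have := key n 0 (by omega)
    rwa [zero_add, pow_one, ← map_nsmul] at this
  have hzero : ∀ m, k ≤ m → (δ ^ m) w = 0 := fun m hm => by
    obtain ⟨r, rfl⟩ := Nat.exists_eq_add_of_le hm
    rw [pow_add, hδ, zero_mul]
    rfl
  have hbin : ∑ m ∈ Finset.range (p + 1), p.choose m • (δ ^ m) w = w := by
    conv_rhs => rw [← hw, (Commute.one_right δ).add_pow]
    let e : AddMonoid.End W →+ W :=
      { toFun := fun f => f w, map_zero' := rfl, map_add' := fun _ _ => rfl }
    refine Eq.trans ?_ (map_sum e _ _).symm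
    refine Finset.sum_congr rfl fun m _ => ?_
    show _ = (δ ^ m * 1 ^ (p - m) * (p.choose m : AddMonoid.End W)) w
    rw [one_pow, mul_one, ← Nat.cast_comm, ← nsmul_eq_mul]
    rfl
  intro j
  induction j with
  | zero =>
    intro i hi
    rw [hzero _ (by omega), smul_zero]
  | succ j ihj =>
    suffices ∀ d i, n * (p - 1) ≤ i + (j + 1) * (p - 1) → n * (p - 1) + 1 ≤ i + d →
        p ^ (j + 1) • (δ ^ (i + 1)) w = 0 from
      fun i hi => this (n * (p - 1) + 1) i hi (Nat.le_add_left _ _)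
    intro d
    induction d using Nat.strong_induction_on with
    | _ d ihd =>
    intro i hi hd
    by_cases hki : k ≤ i + 1
    · rw [hzero _ hki, smul_zero]
    have h := congrArg (fun v => p ^ j • (δ ^ i) v) hbin
    simp only [map_sum, map_nsmul, Finset.smul_sum, ← AddMonoid.End.coe_mul, ← pow_add] at h
    have e0 : ∀ m, p ^ j • (p.choose m • (δ ^ i) ((δ ^ m) w)) = (p.choose m * p ^ j) • (δ ^ (i + m)) w := by
      intro m
      rw [pow_add, ← mul_smul, mul_comm (p.choose m)]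
      rfl
    rw [Finset.sum_range_succ', Nat.choose_zero_right, one_smul, pow_zero, AddMonoid.End.coe_one, id] at h
    have h' := add_eq_right.1 h
    rw [Finset.sum_eq_single_of_mem 0 (Finset.mem_range.2 (by omega))] at h'
    · rw [Nat.choose_one_right] at h'
      rw [pow_succ, mul_smul, ← smul_comm p, ← h', smul_comm p]
      try rfl
    intro m hm hm0
    rw [Finset.mem_range] at hm
    rw [← mul_smul]
    rcases eq_or_lt_of_le (show m + 1 ≤ p by omega) with he | hlt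
    · rw [he, Nat.choose_self, mul_one]
      have hj : n * (p - 1) ≤ (i + p - 1) + j * (p - 1) := by
        rw [Nat.succ_mul] at hi
        omega
      have := ihj (i + p - 1) hj
      rw [show i + p - 1 + 1 = i + p from by omega, pow_add δ] at this
      exact this
    · obtain ⟨cm, hcm⟩ := hp.out.dvd_choose_self (k := m + 1) (by omega) hlt
      have hi' : n * (p - 1) ≤ (i + m) + (j + 1) * (p - 1) := by omega
      have := ihd (d - m) (by omega) (i + m) hi' (by omega)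
      rw [add_assoc, pow_add δ] at this
      rw [hcm, show p ^ j * (p * cm) = cm * p ^ (j + 1) by ring, mul_smul]
      exact (congrArg (cm • ·) this).trans (smul_zero cm)

end Cfsg.Agent.FusionTate
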